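import Mathlib.GroupTheory.GroupAction.MultipleTransitivity
import Mathlib.Data.Fintype.CardEmbedding
import Mathlib.Data.Nat.Factorial.Basic
import Mathlib.Tactic.Linarith
import Mathlib.Tactic.Ring
import Mathlib.Tactic.LinearCombination
import Mathlib.Algebra.Ring.Int.Parity

/-!
Pattern counts in multiply transitive groups: how many group elements send a prescribed part of a
small point set into a given set, and how this forces patterns on one more point to occur.
-/

set_option autoImplicit false
set_option linter.style.haveILetI false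
set_option linter.unusedSectionVars false

namespace CfsgLib.JordanSet

open MulAction

variable {G Ω : Type*} [Group G] [MulAction G Ω] [Fintype G] [Fintype Ω] [DecidableEq Ω]

/-- Number of group elements with trace `M` on `S` of the preimage of `Γ`. -/
def patCount (G : Type*) [Group G] [MulAction G Ω] [Fintype G] (Γ S M : Finset Ω) : ℕ :=
  (Finset.univ.filter fun g : G => ∀ x ∈ S, (g • x ∈ Γ ↔ x ∈ M)).card

lemma patCount_split (Γ S M : Finset Ω) {x : Ω} (hx : x ∉ S) (hxM : x ∉ M) :
    patCount G Γ (insert x S) M + patCount G Γ (insert x S) (insert x M) = patCount G Γ S M := by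
  classical
  unfold patCount
  rw [← Finset.card_filter_add_card_filter_not (s := Finset.univ.filter
    fun g : G => ∀ y ∈ S, (g • y ∈ Γ ↔ y ∈ M)) (fun g : G => g • x ∉ Γ),
    Finset.filter_filter, Finset.filter_filter]
  congr 1 <;> congr 1 <;> ext g <;>
    simp only [Finset.mem_filter, Finset.mem_univ, true_and, Finset.forall_mem_insert, not_not]
  · constructor
    · exact fun h => ⟨h.2, fun hg => hxM (h.1.1 hg)⟩
    · exact fun h => ⟨⟨fun hg => absurd hg h.2, fun hg => absurd hg hxM⟩, h.1⟩
  · constructor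
    · refine fun h => ⟨fun y hy => ?_, h.1.2 (Finset.mem_insert_self x M)⟩
      rw [h.2 y hy, Finset.mem_insert]
      exact or_iff_right fun he : y = x => hx (he ▸ hy)
    · refine fun h => ⟨⟨fun _ => Finset.mem_insert_self x M, fun _ => h.2⟩, fun y hy => ?_⟩
      rw [h.1 y hy, Finset.mem_insert]
      exact (or_iff_right fun he : y = x => hx (he ▸ hy)).symm

lemma exists_smul_embedding {ι : Type*} [Fintype ι] {k : ℕ} [IsMultiplyPretransitive G Ω k]
    (hι : Fintype.card ι ≤ k) (hk : k ≤ Fintype.card Ω) (e f : ι ↪ Ω) :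
    ∃ g : G, ∀ i, g • e i = f i := by
  haveI : IsMultiplyPretransitive G Ω (Fintype.card ι) :=
    isMultiplyPretransitive_of_le (n := k) hι (by rw [Nat.card_eq_fintype_card]; exact hk)
  obtain ⟨g, hg⟩ := exists_smul_eq G ((Fintype.equivFin ι).symm.toEmbedding.trans e)
    ((Fintype.equivFin ι).symm.toEmbedding.trans f)
  refine ⟨g, fun i => ?_⟩
  simpa using DFunLike.congr_fun hg (Fintype.equivFin ι i)

/-- Embeddings with a prescribed pattern with respect to `Γ`. -/
def patternEquiv {ι : Type*} (P : ι → Prop) [DecidablePred P] (Q : Ω → Prop) [DecidablePred Q] :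
    {e : ι ↪ Ω // ∀ i, Q (e i) ↔ P i} ≃ ({i // P i} ↪ {x // Q x}) × ({i // ¬ P i} ↪ {x // ¬ Q x}) where
  toFun e :=
    (⟨fun i => ⟨e.1 i, (e.2 i).2 i.2⟩, fun a b h => Subtype.ext (e.1.injective (congrArg Subtype.val h))⟩,
     ⟨fun i => ⟨e.1 i, fun h => i.2 ((e.2 i).1 h)⟩,
       fun a b h => Subtype.ext (e.1.injective (congrArg Subtype.val h))⟩)
  invFun p :=
    ⟨⟨fun i => if h : P i then (p.1 ⟨i, h⟩ : Ω) else (p.2 ⟨i, h⟩ : Ω), fun a b hab => by
      simp only at hab
      by_cases ha : P a <;> by_cases hb : P b <;> simp only [ha, hb, dite_true, dite_false] at hab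
      · exact congrArg Subtype.val (p.1.injective (Subtype.ext hab))
      · exact absurd (hab ▸ (p.1 ⟨a, ha⟩).2) (p.2 ⟨b, hb⟩).2
      · exact absurd (hab.symm ▸ (p.1 ⟨b, hb⟩).2) (p.2 ⟨a, ha⟩).2
      · exact congrArg Subtype.val (p.2.injective (Subtype.ext hab))⟩, fun i => by
      show Q (if h : P i then (p.1 ⟨i, h⟩ : Ω) else (p.2 ⟨i, h⟩ : Ω)) ↔ P i
      by_cases hi : P i
      · simp only [hi, dite_true, iff_true]; exact (p.1 ⟨i, hi⟩).2
      · simp only [hi, dite_false, iff_false]; exact (p.2 ⟨i, hi⟩).2⟩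
  left_inv e := by
    ext i
    by_cases hi : P i
    · show (if h : P i then _ else _ : Ω) = _
      rw [dif_pos hi]; rfl
    · show (if h : P i then _ else _ : Ω) = _
      rw [dif_neg hi]; rfl
  right_inv p := by
    ext i
    · exact dif_pos i.2
    · exact dif_neg i.2

theorem patCount_eq {k : ℕ} [IsMultiplyPretransitive G Ω k] (hk : k ≤ Fintype.card Ω)
    (Γ S M : Finset Ω) (hM : M ⊆ S) (hS : S.card ≤ k) :
    patCount G Γ S M * (Fintype.card Ω).descFactorial S.card =
      Fintype.card G * (Γ.card.descFactorial M.card *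
        (Fintype.card Ω - Γ.card).descFactorial (S.card - M.card)) := by
  classical
  let P : S → Prop := fun i => (i : Ω) ∈ M
  have hconst : ∀ e : ↥S ↪ Ω,
      (Finset.univ.filter fun g : G => ∀ i, (g • e i ∈ Γ ↔ P i)).card = patCount G Γ S M := by
    intro e
    obtain ⟨h, hh⟩ := exists_smul_embedding (G := G) (k := k) (by simpa using hS) hk
      (Function.Embedding.subtype (· ∈ S)) e
    refine Finset.card_bij' (fun g _ => g * h) (fun g _ => g * h⁻¹) ?_ ?_ ?_ ?_
    · intro g hg
      simp only [patCount, Finset.mem_filter, Finset.mem_univ, true_and] at hg ⊢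
      intro x hx
      rw [mul_smul, show h • x = e ⟨x, hx⟩ from hh ⟨x, hx⟩]
      exact hg ⟨x, hx⟩
    · intro g hg
      simp only [patCount, Finset.mem_filter, Finset.mem_univ, true_and] at hg ⊢
      intro i
      rw [← hh i, mul_smul, inv_smul_smul]
      exact hg i i.2
    · intro g _; simp
    · intro g _; simp
  have hpat : ∀ g : G, (Finset.univ.filter fun e : ↥S ↪ Ω => ∀ i, (g • e i ∈ Γ ↔ P i)).card =
      Γ.card.descFactorial M.card * (Fintype.card Ω - Γ.card).descFactorial (S.card - M.card) := by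
    intro g
    rw [← Fintype.card_subtype, Fintype.card_congr (patternEquiv P (fun x => g • x ∈ Γ)),
      Fintype.card_prod, Fintype.card_embedding_eq, Fintype.card_embedding_eq]
    have h1 : Fintype.card {x // g • x ∈ Γ} = Γ.card :=
      (Fintype.card_congr (Equiv.subtypeEquiv (MulAction.toPerm g) (q := (· ∈ Γ)) (fun x => Iff.rfl))).trans
        (Fintype.card_coe Γ)
    have h2 : Fintype.card {i // P i} = M.card :=
      (Fintype.card_congr
        { toFun := fun i => (⟨(i.1 : Ω), i.2⟩ : {x // x ∈ M})
          invFun := fun x => ⟨⟨x.1, hM x.2⟩, x.2⟩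
          left_inv := fun _ => rfl
          right_inv := fun _ => rfl }).trans (Fintype.card_coe M)
    rw [Fintype.card_subtype_compl, Fintype.card_subtype_compl, h1, h2, Fintype.card_coe]
  have h : ∑ e : ↥S ↪ Ω, (Finset.univ.filter fun g : G => ∀ i, (g • e i ∈ Γ ↔ P i)).card =
      ∑ g : G, (Finset.univ.filter fun e : ↥S ↪ Ω => ∀ i, (g • e i ∈ Γ ↔ P i)).card := by
    simp only [Finset.card_filter]
    exact Finset.sum_comm
  rw [Finset.sum_congr rfl fun e _ => hconst e, Finset.sum_congr rfl fun g _ => hpat g,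
    Finset.sum_const, Finset.sum_const, Finset.card_univ, Finset.card_univ,
    Fintype.card_embedding_eq, Fintype.card_coe, smul_eq_mul, smul_eq_mul] at h
  rw [mul_comm]
  exact h

/-- The hypergeometric pattern weight. -/
def weight (n γ k m : ℕ) : ℕ := γ.descFactorial m * (n - γ).descFactorial (k + 1 - m)

lemma weight_add {n γ k m : ℕ} (hγ : γ ≤ n) (hm : m ≤ k) (hk : k ≤ n) :
    ((weight n γ k m : ℤ) + weight n γ k (m + 1)) =
      ((n : ℤ) - k) * (γ.descFactorial m * (n - γ).descFactorial (k - m)) := by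
  unfold weight
  rw [show k + 1 - m = (k - m) + 1 by omega, show k + 1 - (m + 1) = k - m by omega,
    Nat.descFactorial_succ, Nat.descFactorial_succ]
  rcases Nat.lt_or_ge γ m with h | h
  · rw [Nat.descFactorial_eq_zero_iff_lt.2 h]; simp
  rcases Nat.lt_or_ge (n - γ) (k - m) with h' | h'
  · rw [Nat.descFactorial_eq_zero_iff_lt.2 h']; simp
  push_cast [Nat.cast_sub h, Nat.cast_sub h', Nat.cast_sub hγ, Nat.cast_sub hm]
  ring

/-- A pattern on `k + 1` points cannot be missing if some pattern above it, of the same parity, has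
smaller weight. -/
theorem patCount_ne_zero {k : ℕ} [IsMultiplyPretransitive G Ω k] (hk : k < Fintype.card Ω)
    (Γ T M₀ M : Finset Ω) (hT : T.card = k + 1) (h₀ : M₀ ⊆ M) (hM : M ⊆ T)
    (heven : Even (M.card - M₀.card))
    (hlt : weight (Fintype.card Ω) Γ.card k M.card < weight (Fintype.card Ω) Γ.card k M₀.card) :
    patCount G Γ T M₀ ≠ 0 := by
  intro hzero
  set n := Fintype.card Ω
  let Q : Finset Ω → ℤ := fun A =>
    (patCount G Γ T A : ℤ) * ((n : ℤ) - k) * (n.descFactorial k : ℤ) -
      (Fintype.card G : ℤ) * weight n Γ.card k A.card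
  have hrec : ∀ A : Finset Ω, A ⊆ T → ∀ x ∈ T, x ∉ A → Q (insert x A) = - Q A := by
    intro A hA x hx hxA
    have hS : (T.erase x).card = k := by rw [Finset.card_erase_of_mem hx, hT]; rfl
    have hAS : A ⊆ T.erase x := Finset.subset_erase.2 ⟨hA, hxA⟩
    have hAk : A.card ≤ k := hS ▸ Finset.card_le_card hAS
    have hsp := patCount_split (G := G) Γ (T.erase x) A (Finset.notMem_erase x T) hxA
    rw [Finset.insert_erase hx] at hsp
    have hu := patCount_eq (G := G) (k := k) hk.le Γ (T.erase x) A hAS hS.le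
    rw [hS, ← hsp] at hu
    have hu' : ((patCount G Γ T A : ℤ) + patCount G Γ T (insert x A)) * (n.descFactorial k : ℤ) =
        (Fintype.card G : ℤ) * (Γ.card.descFactorial A.card *
          (n - Γ.card).descFactorial (k - A.card)) := by exact_mod_cast hu
    have hw := weight_add (n := n) (γ := Γ.card) (Finset.card_le_univ Γ) hAk hk.le
    simp only [Q, Finset.card_insert_of_notMem hxA]
    linear_combination ((n : ℤ) - k) * hu' - (Fintype.card G : ℤ) * hw
  have hchain : ∀ d, ∀ A : Finset Ω, M₀ ⊆ A → A ⊆ T → A.card = M₀.card + d →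
      Q A = (-1) ^ d * Q M₀ := by
    intro d
    induction d with
    | zero =>
      intro A h1 _ h3
      rw [Finset.eq_of_subset_of_card_le h1 (by omega)]; simp
    | succ d ih =>
      intro A h1 h2 h3
      obtain ⟨x, hxA, hx0⟩ := Finset.exists_mem_notMem_of_card_lt_card (show M₀.card < A.card by omega)
      have hA' : M₀ ⊆ A.erase x := Finset.subset_erase.2 ⟨h1, hx0⟩
      have := hrec (A.erase x) ((Finset.erase_subset x A).trans h2) x (h2 hxA) (Finset.notMem_erase x A)
      rw [Finset.insert_erase hxA, ih (A.erase x) hA' ((Finset.erase_subset x A).trans h2)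
        (by rw [Finset.card_erase_of_mem hxA]; omega)] at this
      rw [this, pow_succ]; ring
  have hMc := Finset.card_le_card h₀
  have hQ := hchain (M.card - M₀.card) M h₀ hM (by omega)
  rw [heven.neg_one_pow, one_mul] at hQ
  simp only [Q, hzero, Nat.cast_zero, zero_mul, zero_sub] at hQ
  have hG : (0 : ℤ) < Fintype.card G := by exact_mod_cast Fintype.card_pos
  have hlt' : (weight n Γ.card k M.card : ℤ) < weight n Γ.card k M₀.card := by exact_mod_cast hlt
  have hnk : (0 : ℤ) ≤ (n : ℤ) - k := by have : (k : ℤ) ≤ n := by exact_mod_cast hk.le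
                                         linarith
  have hnn : (0 : ℤ) ≤ (patCount G Γ T M : ℤ) * ((n : ℤ) - k) * (n.descFactorial k : ℤ) :=
    mul_nonneg (mul_nonneg (Int.natCast_nonneg _) hnk) (Int.natCast_nonneg _)
  nlinarith [mul_lt_mul_of_pos_left hlt' hG]

end CfsgLib.JordanSet
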