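import Cfsg.Agent.Lib.JordanSet.Counting
import Mathlib.GroupTheory.GroupAction.Jordan
import Mathlib.GroupTheory.Perm.Cycle.Type
import Mathlib.GroupTheory.SpecificGroups.Alternating

/-!
Marggraf's theorem: a primitive group with a transitive Jordan set of size less than half the
degree contains the alternating group.
-/

set_option autoImplicit false
set_option linter.style.haveILetI false
set_option linter.unusedSectionVars false

namespace CfsgLib.JordanSet

open MulAction
open scoped Pointwise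

variable {G Ω : Type*} [Group G] [MulAction G Ω] [Fintype G] [Fintype Ω] [DecidableEq Ω]

/-- `Γ` is a transitive Jordan set: the elements fixing its complement are transitive on it. -/
def IsJordan (G : Type*) [Group G] [MulAction G Ω] (Γ : Finset Ω) : Prop :=
  ∀ x ∈ Γ, ∀ y ∈ Γ, ∃ g : G, (∀ z, z ∉ Γ → g • z = z) ∧ g • x = y

lemma descFactorial_lt_left {a b : ℕ} (hab : a < b) : ∀ {j : ℕ}, 1 ≤ j → j ≤ b →
    a.descFactorial j < b.descFactorial j := by
  intro j h1 h2
  rcases Nat.lt_or_ge a j with h | h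
  · rw [Nat.descFactorial_eq_zero_iff_lt.2 h]
    exact Nat.descFactorial_pos.2 h2
  obtain ⟨i, rfl⟩ : ∃ i, j = i + 1 := ⟨j - 1, by omega⟩
  rw [Nat.descFactorial_succ, Nat.descFactorial_succ]
  exact Nat.mul_lt_mul_of_lt_of_le (by omega) (Nat.descFactorial_le i hab.le)
    (Nat.descFactorial_pos.2 (by omega))

lemma weight_one_lt {n γ k m : ℕ} (hk : 2 ≤ k) (hkγ : k ≤ γ)
    (hn : 2 * γ + 1 ≤ n ∨ (k = 2 ∧ 2 * γ ≤ n)) (hm : (m = k ∨ m = k + 1) ∧ m % 2 = 1) :
    weight n γ k m < weight n γ k 1 := by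
  obtain ⟨g, rfl⟩ : ∃ g, γ = g + 1 := ⟨γ - 1, by omega⟩
  obtain ⟨u, hu⟩ : ∃ u, n - (g + 1) = u + 1 := ⟨n - (g + 1) - 1, by omega⟩
  unfold weight
  rw [Nat.descFactorial_one]
  rcases hm.1 with rfl | rfl
  · obtain ⟨i, rfl⟩ : ∃ i, m = i + 1 := ⟨m - 1, by omega⟩
    rw [show i + 1 + 1 - (i + 1) = 1 by omega, show i + 1 + 1 - 1 = i + 1 by omega,
      Nat.descFactorial_one, hu, Nat.succ_descFactorial_succ, Nat.succ_descFactorial_succ]
    have := descFactorial_lt_left (a := g) (b := u) (by omega) (j := i) (by omega) (by omega)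
    calc (g + 1) * g.descFactorial i * (u + 1) = ((g + 1) * (u + 1)) * g.descFactorial i := by ring
      _ < ((g + 1) * (u + 1)) * u.descFactorial i := Nat.mul_lt_mul_of_pos_left this (by positivity)
      _ = (g + 1) * ((u + 1) * u.descFactorial i) := by ring
  · rw [show k + 1 - (k + 1) = 0 by omega, show k + 1 - 1 = k by omega, Nat.descFactorial_zero,
      mul_one, Nat.succ_descFactorial_succ]
    exact Nat.mul_lt_mul_of_pos_left (descFactorial_lt_left (by omega) (by omega) (by omega)) (by omega)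

lemma weight_two_lt {n γ k m : ℕ} (hk : 3 ≤ k) (hkγ : k ≤ γ) (hn : 2 * γ + 1 ≤ n)
    (hm : (m = k ∨ m = k + 1) ∧ m % 2 = 0) :
    weight n γ k m < weight n γ k 2 := by
  obtain ⟨g, rfl⟩ : ∃ g, γ = g + 1 + 1 := ⟨γ - 2, by omega⟩
  obtain ⟨u, hu⟩ : ∃ u, n - (g + 1 + 1) = u + 1 := ⟨n - (g + 1 + 1) - 1, by omega⟩
  obtain ⟨i, rfl⟩ : ∃ i, k = i + 1 + 1 := ⟨k - 2, by omega⟩
  unfold weight
  have h2 : (g + 1 + 1).descFactorial 2 = (g + 1 + 1) * (g + 1) := by
    rw [show 2 = 1 + 1 from rfl, Nat.succ_descFactorial_succ, Nat.descFactorial_one]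
  rw [h2]
  rcases hm.1 with rfl | rfl
  · rw [show i + 1 + 1 + 1 - (i + 1 + 1) = 1 by omega, show i + 1 + 1 + 1 - 2 = i + 1 by omega,
      Nat.descFactorial_one, hu, Nat.succ_descFactorial_succ, Nat.succ_descFactorial_succ,
      Nat.succ_descFactorial_succ]
    have := descFactorial_lt_left (a := g) (b := u) (by omega) (j := i) (by omega) (by omega)
    calc (g + 1 + 1) * ((g + 1) * g.descFactorial i) * (u + 1)
        = ((g + 1 + 1) * (g + 1) * (u + 1)) * g.descFactorial i := by ring
      _ < ((g + 1 + 1) * (g + 1) * (u + 1)) * u.descFactorial i :=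
          Nat.mul_lt_mul_of_pos_left this (by positivity)
      _ = (g + 1 + 1) * (g + 1) * ((u + 1) * u.descFactorial i) := by ring
  · rw [show i + 1 + 1 + 1 - (i + 1 + 1 + 1) = 0 by omega, show i + 1 + 1 + 1 - 2 = i + 1 by omega,
      Nat.descFactorial_zero, mul_one, Nat.succ_descFactorial_succ, Nat.succ_descFactorial_succ,
      ← mul_assoc]
    exact Nat.mul_lt_mul_of_pos_left (descFactorial_lt_left (by omega) (by omega) (by omega))
      (by positivity)

/-- A conjugate of a Jordan element. -/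
lemma conj_jordan {Γ : Finset Ω} (hJ : IsJordan G Γ) (g : G) {p q : Ω} (hp : g • p ∈ Γ)
    (hq : g • q ∈ Γ) : ∃ h : G, (∀ z, g • z ∉ Γ → h • z = z) ∧ h • p = q := by
  obtain ⟨j, hj, hjp⟩ := hJ _ hp _ hq
  refine ⟨g⁻¹ * j * g, fun z hz => ?_, ?_⟩
  · rw [mul_smul, mul_smul, hj _ hz, inv_smul_smul]
  · rw [mul_smul, mul_smul, hjp, inv_smul_smul]

set_option maxHeartbeats 1000000 in
/-- The block argument: there is no nontrivial block for the stabiliser of `k - 1` points. -/
theorem block_trivial {k : ℕ} [IsMultiplyPretransitive G Ω k] {Γ : Finset Ω} (hJ : IsJordan G Γ)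
    (hk : 2 ≤ k) (hkγ : k ≤ Γ.card)
    (hn : 2 * Γ.card + 1 ≤ Fintype.card Ω ∨ (k = 2 ∧ 2 * Γ.card ≤ Fintype.card Ω))
    (S B : Finset Ω) (hS : S.card = k - 1) (hBS : Disjoint B S)
    (hB : ∀ h : G, (∀ z ∈ S, h • z = z) → ∀ x ∈ B, h • x ∈ B → ∀ w ∈ B, h • w ∈ B)
    (hBhalf : 2 * B.card ≤ Fintype.card Ω - (k - 1)) : B.card ≤ 1 := by
  by_contra hBc
  obtain ⟨b, hb, c, hc, hbc⟩ := Finset.one_lt_card.1 (show 1 < B.card by omega)
  have hkn : k < Fintype.card Ω := by omega
  have hbS : b ∉ S := Finset.disjoint_left.1 hBS hb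
  have hcS : c ∉ S := Finset.disjoint_left.1 hBS hc
  -- a translate containing `b`, avoiding `S` and `c`, lies in `B`
  have hbig : Γ.card + 1 ≤ B.card := by
    obtain ⟨m, hm, hm2⟩ : ∃ m, (m = k ∨ m = k + 1) ∧ m % 2 = 1 := by
      rcases Nat.mod_two_eq_zero_or_one k with h | h
      · exact ⟨k + 1, Or.inr rfl, by omega⟩
      · exact ⟨k, Or.inl rfl, h⟩
    have hT : (insert b (insert c S)).card = k + 1 := by
      rw [Finset.card_insert_of_notMem (by simp [hbc, hbS]), Finset.card_insert_of_notMem hcS, hS]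
      omega
    obtain ⟨M, hM0, hMT, hMc⟩ := Finset.exists_subsuperset_card_eq
      (Finset.singleton_subset_iff.2 (Finset.mem_insert_self b (insert c S))) (n := m)
      (by rw [Finset.card_singleton]; omega) (by omega)
    have hne := patCount_ne_zero (G := G) (k := k) hkn Γ _ {b} M hT hM0 hMT
      (by rw [Finset.card_singleton, Nat.even_iff]; omega)
      (by rw [Finset.card_singleton, hMc]; exact weight_one_lt hk hkγ hn ⟨hm, hm2⟩)
    obtain ⟨g, hg⟩ := Finset.card_ne_zero.1 hne
    simp only [Finset.mem_filter, Finset.mem_univ, true_and, Finset.forall_mem_insert] at hg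
    obtain ⟨hgb, hgc, hgS⟩ := hg
    have hgb' : g • b ∈ Γ := hgb.2 (Finset.mem_singleton_self b)
    have hgc' : g • c ∉ Γ := fun h => hbc (Finset.mem_singleton.1 (hgc.1 h)).symm
    have hgS' : ∀ z ∈ S, g • z ∉ Γ := fun z hz h =>
      hbS (Finset.mem_singleton.1 ((hgS z hz).1 h) ▸ hz)
    have hsub : Γ.image (fun x => g⁻¹ • x) ⊆ B.erase c := by
      intro w hw
      obtain ⟨x, hx, rfl⟩ := Finset.mem_image.1 hw
      refine Finset.mem_erase.2 ⟨fun h => hgc' (by rw [← h, smul_inv_smul]; exact hx), ?_⟩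
      obtain ⟨h, hfix, hh⟩ := conj_jordan hJ g hgb' (q := g⁻¹ • x) (by rw [smul_inv_smul]; exact hx)
      rw [← hh]
      exact hB h (fun z hz => hfix z (hgS' z hz)) c hc (by rw [hfix c hgc']; exact hc) b hb
    have := Finset.card_le_card hsub
    rw [Finset.card_image_of_injective _ (MulAction.injective g⁻¹), Finset.card_erase_of_mem hc] at this
    omega
  -- a translate containing `b` and a point `y` outside `B`, avoiding `S`, contains `B`
  have hzero : ∀ y, y ∉ B → y ∉ S → patCount G Γ (insert b (insert y S)) {b, y} = 0 := by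
    intro y hyB hyS
    by_contra hne
    obtain ⟨g, hg⟩ := Finset.card_ne_zero.1 hne
    simp only [Finset.mem_filter, Finset.mem_univ, true_and, Finset.forall_mem_insert] at hg
    obtain ⟨hgb, hgy, hgS⟩ := hg
    simp only [Finset.mem_insert, Finset.mem_singleton] at hgb hgy hgS
    have hgS' : ∀ z ∈ S, g • z ∉ Γ := fun z hz h => by
      rcases (hgS z hz).1 h with h1 | h1
      · exact hbS (h1 ▸ hz)
      · exact hyS (h1 ▸ hz)
    obtain ⟨h, hfix, hh⟩ := conj_jordan hJ g (hgb.2 (by simp)) (q := y) (hgy.2 (by simp))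
    have hsub : B.image (fun x => g • x) ⊆ Γ := by
      intro w hw
      obtain ⟨x, hx, rfl⟩ := Finset.mem_image.1 hw
      by_contra hx'
      apply hyB
      rw [← hh]
      exact hB h (fun z hz => hfix z (hgS' z hz)) x hx (by rw [hfix x hx']; exact hx) b hb
    have := Finset.card_le_card hsub
    rw [Finset.card_image_of_injective _ (MulAction.injective g)] at this
    omega
  rcases Nat.eq_or_lt_of_le hk with hk2 | hk3
  · -- `k = 2`
    subst hk2
    obtain ⟨a, rfl⟩ := Finset.card_eq_one.1 hS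
    have hba : b ≠ a := by simpa using hbS
    have hab : patCount G Γ {a, b} {a, b} ≠ 0 := by
      intro h0
      have := patCount_eq (G := G) (k := 2) hkn.le Γ {a, b} {a, b} subset_rfl (Finset.card_pair hba.symm).le
      rw [h0, zero_mul, Finset.card_pair hba.symm, Nat.sub_self, Nat.descFactorial_zero, mul_one,
        eq_comm, mul_eq_zero] at this
      rcases this with h | h
      · exact Fintype.card_pos.ne' h
      · rw [Nat.descFactorial_eq_zero_iff_lt] at h; omega
    have hall : ∀ y, y ∉ B → y ≠ a →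
        ∀ g : G, g • a ∈ Γ → g • b ∈ Γ → g • y ∈ Γ := by
      intro y hyB hya g hga hgb
      by_contra hgy
      have hby : b ≠ y := fun h => hyB (h ▸ hb)
      have hz := hzero y hyB (by simpa using hya)
      have h1 := patCount_split (G := G) Γ {b, y} {b, y} (x := a)
        (by simp [hba.symm, hya.symm]) (by simp [hba.symm, hya.symm])
      have h2 := patCount_split (G := G) Γ {a, b} {a, b} (x := y)
        (by simp [hby.symm, hya]) (by simp [hby.symm, hya])
      have he1 : (insert a {b, y} : Finset Ω) = insert b (insert y {a}) := by ext z; simp; tauto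
      have he2 : (insert y {a, b} : Finset Ω) = insert b (insert y {a}) := by ext z; simp; tauto
      rw [he1, hz, zero_add] at h1
      rw [he2] at h2
      have h3 := patCount_eq (G := G) (k := 2) hkn.le Γ {a, b} {a, b} subset_rfl (Finset.card_pair hba.symm).le
      have h4 := patCount_eq (G := G) (k := 2) hkn.le Γ {b, y} {b, y} subset_rfl (Finset.card_pair hby).le
      rw [Finset.card_pair hba.symm] at h3
      rw [Finset.card_pair hby, ← h3] at h4
      have h5 := Nat.eq_of_mul_eq_mul_right (Nat.descFactorial_pos.2 hkn.le) h4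
      have : patCount G Γ (insert b (insert y {a})) {a, b} ≠ 0 := by
        refine Finset.card_ne_zero.2 ⟨g, ?_⟩
        simp only [Finset.mem_filter, Finset.mem_univ, true_and, Finset.forall_mem_insert]
        simp only [Finset.mem_singleton, Finset.mem_insert]
        refine ⟨by tauto, ⟨fun h => absurd h hgy, fun h => ?_⟩, ?_⟩
        · rcases h with h | h
          · exact absurd h hya
          · exact absurd h hby.symm
        · rintro z rfl; tauto
      omega
    obtain ⟨g, hg⟩ := Finset.card_ne_zero.1 hab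
    simp only [Finset.mem_filter, Finset.mem_univ, true_and] at hg
    have hga : g • a ∈ Γ := (hg a (by simp)).2 (by simp)
    have hgb : g • b ∈ Γ := (hg b (by simp)).2 (by simp)
    have hsub : (insert b Bᶜ).image (fun x => g • x) ⊆ Γ := by
      intro w hw
      obtain ⟨x, hx, rfl⟩ := Finset.mem_image.1 hw
      rcases Finset.mem_insert.1 hx with rfl | hx
      · exact hgb
      · rcases eq_or_ne x a with rfl | hxa
        · exact hga
        · exact hall x (Finset.mem_compl.1 hx) hxa g hga hgb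
    have := Finset.card_le_card hsub
    rw [Finset.card_image_of_injective _ (MulAction.injective g),
      Finset.card_insert_of_notMem (by simp [hb]), Finset.card_compl] at this
    omega
  · -- `3 ≤ k`
    have hn' : 2 * Γ.card + 1 ≤ Fintype.card Ω := by
      rcases hn with h | ⟨h, -⟩ <;> omega
    obtain ⟨y, hyB, hyS⟩ : ∃ y, y ∉ B ∧ y ∉ S := by
      by_contra h
      push Not at h
      have hsub : (Finset.univ : Finset Ω) ⊆ B ∪ S := fun z _ => by
        by_cases hz : z ∈ B
        · exact Finset.mem_union_left _ hz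
        · exact Finset.mem_union_right _ (h z hz)
      have := (Finset.card_le_card hsub).trans (Finset.card_union_le B S)
      rw [Finset.card_univ] at this
      omega
    obtain ⟨m, hm, hm2⟩ : ∃ m, (m = k ∨ m = k + 1) ∧ m % 2 = 0 := by
      rcases Nat.mod_two_eq_zero_or_one k with h | h
      · exact ⟨k, Or.inl rfl, h⟩
      · exact ⟨k + 1, Or.inr rfl, by omega⟩
    have hby : b ≠ y := fun h => hyB (h ▸ hb)
    have hT : (insert b (insert y S)).card = k + 1 := by
      rw [Finset.card_insert_of_notMem (by simp [hby, hbS]), Finset.card_insert_of_notMem hyS, hS]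
      omega
    obtain ⟨M, hM0, hMT, hMc⟩ := Finset.exists_subsuperset_card_eq
      (show ({b, y} : Finset Ω) ⊆ insert b (insert y S) from
        Finset.insert_subset_insert b (Finset.singleton_subset_iff.2 (Finset.mem_insert_self y S))) (n := m)
      (by rw [Finset.card_pair hby]; omega) (by omega)
    exact patCount_ne_zero (G := G) (k := k) hkn Γ _ {b, y} M hT hM0 hMT
      (by rw [Finset.card_pair hby, Nat.even_iff]; omega)
      (by rw [Finset.card_pair hby, hMc]; exact weight_two_lt hk3 hkγ hn' ⟨hm, hm2⟩)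
      (hzero y hyB hyS)

/-- One step: from `k`-transitive to `k + 1`-transitive. -/
theorem transitive_succ {k : ℕ} [IsMultiplyPretransitive G Ω k] {Γ : Finset Ω} (hJ : IsJordan G Γ)
    (hk : 2 ≤ k) (hkγ : k ≤ Γ.card)
    (hn : 2 * Γ.card + 1 ≤ Fintype.card Ω ∨ (k = 2 ∧ 2 * Γ.card ≤ Fintype.card Ω)) :
    IsMultiplyPretransitive G Ω (k + 1) := by
  have hkn : k + 1 ≤ Fintype.card Ω := by omega
  rw [isMultiplyPretransitive_iff]
  intro x y
  let f1 : Fin (k - 1) ↪ Fin (k + 1) := ⟨Fin.castLE (by omega), Fin.castLE_injective _⟩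
  obtain ⟨g, hg⟩ := exists_smul_embedding (G := G) (k := k) (by simp) (by omega) (f1.trans x)
    (f1.trans y)
  let S : Finset Ω := Finset.univ.map (f1.trans y)
  have hS : S.card = k - 1 := by simp [S]
  haveI h1 : IsMultiplyPretransitive (fixingSubgroup G (S : Set Ω))
      (SubMulAction.ofFixingSubgroup G (S : Set Ω)) 1 :=
    SubMulAction.ofFixingSubgroup.isMultiplyPretransitive (n := k) G (S : Set Ω) (m := 1)
      (by rw [Set.ncard_coe_finset, hS]; omega)
  haveI h1' : IsPretransitive (fixingSubgroup G (S : Set Ω))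
      (SubMulAction.ofFixingSubgroup G (S : Set Ω)) := is_one_pretransitive_iff.1 h1
  have hXcard : Nat.card (SubMulAction.ofFixingSubgroup G (S : Set Ω)) = Fintype.card Ω - (k - 1) := by
    show Nat.card ↥((S : Set Ω)ᶜ) = _
    rw [Nat.card_coe_set_eq, Set.ncard_compl, Set.ncard_coe_finset, hS, Nat.card_eq_fintype_card]
  have hprim : IsPreprimitive (fixingSubgroup G (S : Set Ω))
      (SubMulAction.ofFixingSubgroup G (S : Set Ω)) := by
    refine ⟨fun {B} hB => ?_⟩
    by_contra hnt
    unfold IsTrivialBlock at hnt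
    push Not at hnt
    obtain ⟨hns, hnu⟩ := hnt
    classical
    have hhalf : 2 * B.ncard ≤ Fintype.card Ω - (k - 1) := by
      have h := hB.ncard_block_mul_ncard_orbit_eq hns.nonempty
      rw [hXcard] at h
      have horb : 2 ≤ (orbit ↥(fixingSubgroup G (S : Set Ω)) B).ncard := by
        by_contra hlt
        apply hnu
        apply Set.eq_of_subset_of_ncard_le (Set.subset_univ _) _ (Set.toFinite _)
        rw [Set.ncard_univ, hXcard, ← h]
        calc B.ncard * (orbit ↥(fixingSubgroup G (S : Set Ω)) B).ncard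
            ≤ B.ncard * 1 := Nat.mul_le_mul_left _ (by omega)
          _ = B.ncard := mul_one _
      rw [← h, mul_comm 2]
      exact Nat.mul_le_mul_left _ horb
    let B' : Finset Ω := (Subtype.val '' B).toFinset
    have hB'c : B'.card = B.ncard := by
      rw [← Set.ncard_eq_toFinset_card', Set.ncard_image_of_injective _ Subtype.val_injective]
    have := block_trivial hJ hk hkγ hn S B' hS (by
      rw [Finset.disjoint_left]
      intro z hz
      obtain ⟨w, _, rfl⟩ := Set.mem_toFinset.1 hz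
      exact w.2) (by
      intro h hh z hz hhz w hw
      obtain ⟨z', hz', rfl⟩ := Set.mem_toFinset.1 hz
      obtain ⟨w', hw', rfl⟩ := Set.mem_toFinset.1 hw
      obtain ⟨v, hv, hvz⟩ := Set.mem_toFinset.1 hhz
      let h' : ↥(fixingSubgroup G (S : Set Ω)) := ⟨h, (mem_fixingSubgroup_iff G).2 hh⟩
      have hhB : h' • B = B := hB.smul_eq_of_mem hz'
        (by rw [show h' • z' = v from Subtype.ext hvz.symm]; exact hv)
      refine Set.mem_toFinset.2 ⟨h' • w', ?_, rfl⟩
      rw [← hhB]
      exact Set.smul_mem_smul_set hw') (hB'c ▸ hhalf)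
    rw [hB'c] at this
    exact Set.not_subsingleton_iff.2 hns ((Set.ncard_le_one_iff_subsingleton (s := B)).1 this)
  -- a Jordan set avoiding `S`
  obtain ⟨Γs, hΓs, hΓsc⟩ := Finset.exists_subset_card_eq (s := Γᶜ) (n := k - 1)
    (by rw [Finset.card_compl]; omega)
  obtain ⟨t, ht⟩ := exists_smul_embedding (G := G) (k := k) (by simp) (by omega)
    (f1.trans y) ((Fintype.equivFinOfCardEq (α := ↥Γs) (n := k - 1) (by simp [hΓsc])).symm.toEmbedding.trans
      (Function.Embedding.subtype _))
  have htS : ∀ z ∈ S, t • z ∉ Γ := by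
    intro z hz
    obtain ⟨i, -, rfl⟩ := Finset.mem_map.1 hz
    rw [ht i]
    exact Finset.mem_compl.1 (hΓs (Subtype.coe_prop _))
  have htwo : IsMultiplyPretransitive (fixingSubgroup G (S : Set Ω))
      (SubMulAction.ofFixingSubgroup G (S : Set Ω)) 2 := by
    let s : Set (SubMulAction.ofFixingSubgroup G (S : Set Ω)) := {z | t • (z : Ω) ∉ Γ}
    have hsc : s.ncard = Fintype.card Ω - (k - 1) - Γ.card := by
      have hcompl : sᶜ.ncard = Γ.card := by
        rw [← Set.ncard_coe_finset]
        refine Set.ncard_congr (fun z _ => t • (z : Ω)) (fun z hz => ?_) (fun a b _ _ h => ?_) (fun w hw => ?_)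
        · exact not_not.1 hz
        · exact Subtype.ext (smul_left_cancel t h)
        · refine ⟨⟨t⁻¹ • w, fun h => htS _ h (by rw [smul_inv_smul]; exact hw)⟩, ?_, smul_inv_smul t w⟩
          show ¬ t • t⁻¹ • w ∉ Γ
          rw [smul_inv_smul]; exact not_not.2 hw
      have := Set.ncard_add_ncard_compl s
      rw [hXcard, hcompl] at this
      omega
    refine hprim.is_two_pretransitive (s := s) (n := Fintype.card Ω - (k - 1) - Γ.card - 1)
      (by omega) (by rw [hXcard]; omega) ⟨fun u v => ?_⟩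
    have hu : t • ((u : SubMulAction.ofFixingSubgroup G (S : Set Ω)) : Ω) ∈ Γ := not_not.1 u.2
    have hv : t • ((v : SubMulAction.ofFixingSubgroup G (S : Set Ω)) : Ω) ∈ Γ := not_not.1 v.2
    obtain ⟨h, hfix, hh⟩ := conj_jordan hJ t hu hv
    let h' : ↥(fixingSubgroup G (S : Set Ω)) :=
      ⟨h, (mem_fixingSubgroup_iff G).2 fun z hz => hfix z (htS z hz)⟩
    exact ⟨⟨h', (mem_fixingSubgroup_iff _).2 fun z hz => Subtype.ext (hfix _ hz)⟩,
      Subtype.ext (Subtype.ext hh)⟩
  -- finish
  have hkey : ∀ i : Fin (k + 1), (i : ℕ) < k - 1 ∨ (i : ℕ) = k - 1 ∨ (i : ℕ) = k := fun i => by omega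
  have hout : ∀ (z : Fin (k + 1) ↪ Ω) (i : Fin (k + 1)), k - 1 ≤ (i : ℕ) →
      (∀ l, z (f1 l) = y (f1 l)) → z i ∉ (S : Set Ω) := by
    intro z i hi hz hmem
    obtain ⟨l, -, hl⟩ := Finset.mem_map.1 (Finset.mem_coe.1 hmem)
    have h2 : f1 l = i := z.injective ((hz l).trans hl)
    rw [← h2] at hi
    exact absurd l.2 (not_lt.2 hi)
  let x' : Fin (k + 1) ↪ Ω := x.trans (MulAction.toPerm g).toEmbedding
  have hx' : ∀ l, x' (f1 l) = y (f1 l) := hg
  let i1 : Fin (k + 1) := ⟨k - 1, by omega⟩
  let i2 : Fin (k + 1) := ⟨k, by omega⟩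
  have hi12 : i1 ≠ i2 := fun h => by simp [i1, i2, Fin.ext_iff] at h; omega
  obtain ⟨h, h1e, h2e⟩ := is_two_pretransitive_iff.1 htwo
    (show (⟨x' i1, hout x' i1 le_rfl hx'⟩ : SubMulAction.ofFixingSubgroup G (S : Set Ω)) ≠
        ⟨x' i2, hout x' i2 (show k - 1 ≤ k by omega) hx'⟩ from
      fun h => hi12 (x'.injective (congrArg Subtype.val h)))
    (show (⟨y i1, hout y i1 le_rfl (fun _ => rfl)⟩ : SubMulAction.ofFixingSubgroup G (S : Set Ω)) ≠
        ⟨y i2, hout y i2 (show k - 1 ≤ k by omega) (fun _ => rfl)⟩ from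
      fun h => hi12 (y.injective (congrArg Subtype.val h)))
  refine ⟨(h : G) * g, ?_⟩
  ext i
  show ((h : G) * g) • x i = y i
  rw [mul_smul]
  rcases hkey i with hi | hi | hi
  · have hi' : i = f1 ⟨i, hi⟩ := Fin.ext rfl
    rw [hi', show g • x (f1 ⟨i, hi⟩) = y (f1 ⟨i, hi⟩) from hg ⟨i, hi⟩]
    exact (mem_fixingSubgroup_iff G).1 h.2 _ (Finset.mem_coe.2 (Finset.mem_map.2 ⟨⟨i, hi⟩, Finset.mem_univ _, rfl⟩))
  · rw [show i = i1 from Fin.ext hi]
    exact congrArg Subtype.val h1e
  · rw [show i = i2 from Fin.ext hi]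
    exact congrArg Subtype.val h2e

lemma two_transitive [IsPreprimitive G Ω] {Γ : Finset Ω} (hJ : IsJordan G Γ) (h1 : 1 < Γ.card)
    (h2 : Γ.card < Fintype.card Ω) : IsMultiplyPretransitive G Ω 2 := by
  have hsc : ((Γ : Set Ω)ᶜ).ncard = Fintype.card Ω - Γ.card := by
    rw [Set.ncard_compl, Set.ncard_coe_finset, Nat.card_eq_fintype_card]
  refine (‹IsPreprimitive G Ω›).is_two_pretransitive (s := (Γ : Set Ω)ᶜ)
    (n := Fintype.card Ω - Γ.card - 1) (by omega) (by rw [Nat.card_eq_fintype_card]; omega)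
    ⟨fun u v => ?_⟩
  obtain ⟨g, hg, hgu⟩ := hJ _ (Finset.mem_coe.1 (Set.notMem_compl_iff.1 u.2)) _
    (Finset.mem_coe.1 (Set.notMem_compl_iff.1 v.2))
  exact ⟨⟨g, (mem_fixingSubgroup_iff G).2 fun z hz => hg z (fun h => hz (Finset.mem_coe.2 h))⟩,
    Subtype.ext hgu⟩

/-- Half: three-transitivity (also for `2|Γ| = n`). -/
theorem three_transitive [IsPreprimitive G Ω] {Γ : Finset Ω} (hJ : IsJordan G Γ) (h1 : 1 < Γ.card)
    (h2 : 2 * Γ.card ≤ Fintype.card Ω) : IsMultiplyPretransitive G Ω 3 := by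
  haveI := two_transitive (G := G) hJ h1 (by omega)
  exact transitive_succ (k := 2) hJ le_rfl h1 (Or.inr ⟨rfl, h2⟩)

/-- Marggraf: the group is `|Γ|`-transitive. -/
theorem card_transitive [IsPreprimitive G Ω] {Γ : Finset Ω} (hJ : IsJordan G Γ) (h1 : 1 < Γ.card)
    (h2 : 2 * Γ.card < Fintype.card Ω) : IsMultiplyPretransitive G Ω Γ.card := by
  suffices ∀ d, 2 + d ≤ Γ.card → IsMultiplyPretransitive G Ω (2 + d) by
    obtain ⟨d, hd⟩ := Nat.exists_eq_add_of_le h1
    rw [hd]; exact this d (by omega)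
  intro d
  induction d with
  | zero => exact fun _ => two_transitive (G := G) hJ h1 (by omega)
  | succ d ih =>
    intro hd
    haveI := ih (by omega)
    exact transitive_succ (k := 2 + d) hJ (by omega) (by omega) (Or.inl (by omega))

lemma isThreeCycle_commutator {h x : Equiv.Perm Ω} {a : Ω} (ha : h a ≠ a) (hxa : x a ≠ a)
    (hsupp : ∀ z, h z ≠ z → x z ≠ z → z = a) :
    (h * x * h⁻¹ * x⁻¹).IsThreeCycle := by
  have hinv : ∀ (p : Equiv.Perm Ω) (z : Ω), p z = z → p⁻¹ z = z := fun p z hz => by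
    rw [Equiv.Perm.inv_eq_iff_eq, hz]
  have hhfix : ∀ z, z ≠ a → x z ≠ z → h z = z := fun z hz hx => by
    by_contra h'; exact hz (hsupp z h' hx)
  have hxfix : ∀ z, z ≠ a → h z ≠ z → x z = z := fun z hz hh => by
    by_contra h'; exact hz (hsupp z hh h')
  have hxxa : x (x a) ≠ x a := fun h' => hxa (x.injective h')
  have hhha : h (h a) ≠ h a := fun h' => ha (h.injective h')
  have e1 : h (x a) = x a := hhfix _ hxa hxxa
  have e2 : x (h a) = h a := hxfix _ ha hhha
  have hne : h a ≠ x a := fun h' => hxxa (by rw [← h']; exact e2)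
  set a' := x⁻¹ a with ha'
  have hxa' : x a' = a := by rw [ha']; exact x.apply_symm_apply a
  have ha'a : a' ≠ a := fun h' => hxa (by rw [h'] at hxa'; exact hxa')
  set b' := h⁻¹ a with hb'
  have hhb' : h b' = a := by rw [hb']; exact h.apply_symm_apply a
  have hb'a : b' ≠ a := fun h' => ha (by rw [h'] at hhb'; exact hhb')
  have hfa' : h a' = a' := hhfix a' ha'a (by rw [hxa']; exact ha'a.symm)
  have hfb' : x b' = b' := hxfix b' hb'a (by rw [hhb']; exact hb'a.symm)
  have key : h * x * h⁻¹ * x⁻¹ = Equiv.swap a (x a) * Equiv.swap a (h a) := by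
    ext z
    simp only [Equiv.Perm.mul_apply]
    rcases eq_or_ne z a with rfl | hza
    · rw [Equiv.swap_apply_left, Equiv.swap_apply_of_ne_of_ne ha hne, ← ha', hinv h a' hfa', hxa']
    rcases eq_or_ne z (h a) with rfl | hzh
    · rw [Equiv.swap_apply_right, Equiv.swap_apply_left, hinv x (h a) e2,
        show h⁻¹ (h a) = a from h.symm_apply_apply a, e1]
    rw [Equiv.swap_apply_of_ne_of_ne hza hzh]
    rcases eq_or_ne z (x a) with rfl | hzx
    · rw [Equiv.swap_apply_right, show x⁻¹ (x a) = a from x.symm_apply_apply a, ← hb', hfb', hhb']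
    rw [Equiv.swap_apply_of_ne_of_ne hza hzx]
    by_cases hxz : x z = z
    · rw [hinv x z hxz]
      by_cases hhz : h z = z
      · rw [hinv h z hhz, hxz, hhz]
      · set w := h⁻¹ z with hw
        have hhw : h w = z := by rw [hw]; exact h.apply_symm_apply z
        have hwa : w ≠ a := fun h' => hzh (by rw [← hhw, h'])
        have hwm : h w ≠ w := fun h' => hhz (by
          have : z = w := hhw.symm.trans h'
          rw [this]; exact h')
        rw [hxfix w hwa hwm, hhw]
    · set w := x⁻¹ z with hw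
      have hxw : x w = z := by rw [hw]; exact x.apply_symm_apply z
      have hwa : w ≠ a := fun h' => hzx (by rw [← hxw, h'])
      have hwm : x w ≠ w := fun h' => hxz (by
        have : z = w := hxw.symm.trans h'
        rw [this]; exact h')
      rw [hinv h w (hhfix w hwa hwm), hxw, hhfix z hza hxz]
  rw [key]
  exact Equiv.Perm.isThreeCycle_swap_mul_swap_same hxa.symm ha.symm hne.symm

/-- Marggraf's theorem. -/
theorem alternating_le [IsPreprimitive G Ω] {Γ : Finset Ω} (hJ : IsJordan G Γ) (h1 : 1 < Γ.card)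
    (h2 : 2 * Γ.card < Fintype.card Ω) (σ : Equiv.Perm Ω) (hσ : Equiv.Perm.sign σ = 1) :
    ∃ g : G, MulAction.toPerm g = σ := by
  haveI := card_transitive (G := G) hJ h1 h2
  obtain ⟨a, ha, b, hb, hab⟩ := Finset.one_lt_card.1 h1
  obtain ⟨s, hs, hsc⟩ := Finset.exists_subset_card_eq (s := Γᶜ) (n := Γ.card - 1)
    (by rw [Finset.card_compl]; omega)
  have has : a ∉ s := fun h => Finset.mem_compl.1 (hs h) ha
  have hcard : (insert a s).card = Γ.card := by
    rw [Finset.card_insert_of_notMem has, hsc]; omega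
  obtain ⟨t, ht⟩ := exists_smul_embedding (G := G) (k := Γ.card) (ι := ↥(insert a s))
    (by rw [Fintype.card_coe, hcard]) (Finset.card_le_univ Γ)
    ((Finset.equivOfCardEq (s := insert a s) (t := Γ) hcard).toEmbedding.trans (Function.Embedding.subtype _))
    (Function.Embedding.subtype (· ∈ insert a s))
  -- `t` maps `Γ` onto `insert a s`
  let e := Finset.equivOfCardEq (s := insert a s) (t := Γ) hcard
  have hmap : ∀ w ∈ Γ, t • w ∈ insert a s := by
    intro w hw
    have h := ht (e.symm ⟨w, hw⟩)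
    change t • ((e (e.symm ⟨w, hw⟩) : ↥Γ) : Ω) = _ at h
    rw [Equiv.apply_symm_apply] at h
    rw [h]
    exact Subtype.coe_prop _
  have hp : t • ((e ⟨a, Finset.mem_insert_self a s⟩ : ↥Γ) : Ω) = a := ht ⟨a, Finset.mem_insert_self a s⟩
  obtain ⟨q, hq, hqp⟩ := Finset.exists_mem_ne h1 ((e ⟨a, Finset.mem_insert_self a s⟩ : ↥Γ) : Ω)
  obtain ⟨j, hj, hjq⟩ := hJ _ (e ⟨a, Finset.mem_insert_self a s⟩).2 q hq
  obtain ⟨g, hg, hga⟩ := hJ a ha b hb
  let φ := MulAction.toPermHom G Ω
  have h3 := isThreeCycle_commutator (h := φ g) (x := φ (t * j * t⁻¹)) (a := a)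
    (by show g • a ≠ a; rw [hga]; exact hab.symm)
    (by
      show (t * j * t⁻¹) • a ≠ a
      have hta : t⁻¹ • a = ((e ⟨a, Finset.mem_insert_self a s⟩ : ↥Γ) : Ω) :=
        inv_smul_eq_iff.2 hp.symm
      rw [mul_smul, mul_smul, hta, hjq]
      exact fun h => hqp (smul_left_cancel t (h.trans hp.symm)))
    (fun z hz1 hz2 => by
      change g • z ≠ z at hz1
      change (t * j * t⁻¹) • z ≠ z at hz2
      have hzΓ : z ∈ Γ := by by_contra h; exact hz1 (hg z h)
      have hz' : t⁻¹ • z ∈ Γ := by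
        by_contra h
        exact hz2 (by rw [mul_smul, mul_smul, hj _ h, smul_inv_smul])
      have := hmap _ hz'
      rw [smul_inv_smul] at this
      exact (Finset.mem_insert.1 this).resolve_right fun h => Finset.mem_compl.1 (hs h) hzΓ)
  have hprim : IsPreprimitive ↥φ.range Ω :=
    (isPreprimitive_congr (φ := φ.rangeRestrict)
      (f := { toFun := (id : Ω → Ω), map_smul' := fun _ _ => rfl }) φ.rangeRestrict_surjective
      Function.bijective_id).1 inferInstance
  have hle := Equiv.Perm.alternatingGroup_le_of_isPreprimitive_of_isThreeCycle_mem hprim h3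
    ⟨g * (t * j * t⁻¹) * g⁻¹ * (t * j * t⁻¹)⁻¹, by simp only [map_mul, map_inv]⟩
  obtain ⟨u, hu⟩ := hle (Equiv.Perm.mem_alternatingGroup.2 hσ)
  exact ⟨u, hu⟩

end CfsgLib.JordanSet
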